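import Cfsg.Agent.H863.G5.Rel
import Cfsg.Agent.H24.Q5.Fus

/-!
# S5211, `q = 5`: the data for the row `B` (helper863); interface
-/

set_option autoImplicit false

namespace Cfsg.Agent.H863.G5

open Subgroup

/-- `s` normalizes `⟨z, n1, …, n4⟩` -/
structure NQ {G : Type} [Group G] (z n1 n2 n3 n4 s : G) : Prop where
  cz : s * z * s⁻¹ ∈ Qs z n1 n2 n3 n4
  c1 : s * n1 * s⁻¹ ∈ Qs z n1 n2 n3 n4
  c2 : s * n2 * s⁻¹ ∈ Qs z n1 n2 n3 n4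
  c3 : s * n3 * s⁻¹ ∈ Qs z n1 n2 n3 n4
  c4 : s * n4 * s⁻¹ ∈ Qs z n1 n2 n3 n4

/-- explicit elements of a group `G` -/
structure BDat {G : Type} [Group G] (z n1 n2 n3 n4 a h o f i x1 x2 x3 x4 : G) : Prop where
  rel : Rel z n1 n2 n3 n4 a
  z1 : z ≠ 1
  /-- `Z₁` is not strongly closed -/
  hb : ∃ j k : ℕ, h * z * h⁻¹ = a ^ j * z ^ k ∧ ¬ 5 ∣ j
  /-- `x3` moves `Z₂` and `Z₃` -/
  mv : ∃ k1 k2 k3 k4 k5 : ℕ, x3 * n1 * x3⁻¹ = n1 ^ k1 * n2 ^ k2 * n3 ^ k3 * n4 ^ k4 * z ^ k5 ∧ ¬ 5 ∣ k4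
  /-- an element of order 3 -/
  o3 : o ^ 3 = 1
  oN : NQ z n1 n2 n3 n4 o
  oz : o * z = z * o
  o1 : o * n1 ≠ n1 * o
  /-- an element acting on `⟨z⟩` as `2` -/
  fN : NQ z n1 n2 n3 n4 f
  fz : f * z * f⁻¹ = z ^ 2
  /-- an extraspecial group of order 32 centralizing `z` -/
  i2 : i * i = 1
  i1 : i * n1 ≠ n1 * i
  N1 : NQ z n1 n2 n3 n4 x1
  N2 : NQ z n1 n2 n3 n4 x2
  N3 : NQ z n1 n2 n3 n4 x3
  N4 : NQ z n1 n2 n3 n4 x4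
  z1' : x1 * z = z * x1
  z2' : x2 * z = z * x2
  z3' : x3 * z = z * x3
  z4' : x4 * z = z * x4
  s1 : x1 * x1 = 1 ∨ x1 * x1 = i
  s2 : x2 * x2 = 1 ∨ x2 * x2 = i
  s3 : x3 * x3 = 1 ∨ x3 * x3 = i
  s4 : x4 * x4 = 1 ∨ x4 * x4 = i
  c12 : x1 * x2 = i * x2 * x1
  c34 : x3 * x4 = i * x4 * x3
  c13 : x1 * x3 = x3 * x1
  c14 : x1 * x4 = x4 * x1
  c23 : x2 * x3 = x3 * x2
  c24 : x2 * x4 = x4 * x2
  ci1 : i * x1 = x1 * i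
  ci2 : i * x2 = x2 * i
  ci3 : i * x3 = x3 * i
  ci4 : i * x4 = x4 * i

/-- the abstract part of the row `B`: Sylow 5-subgroup, `Loc`, `3 ∣ n`, `128 ∣ n` -/
def StBDat : Prop :=
  ∀ {G : Type} [Group G] [Finite G] {z n1 n2 n3 n4 a h o f i x1 x2 x3 x4 : G},
    BDat z n1 n2 n3 n4 a h o f i x1 x2 x3 x4 → ¬ 5 ^ 7 ∣ Nat.card G → H24.Q5.StRowB

end Cfsg.Agent.H863.G5
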