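import Cfsg.Agent.H863.G5.BWords
import Cfsg.Agent.BM.StageWRel
import Cfsg.Agent.BM.KHAll
import Cfsg.Agent.BabyM.Instance
import Cfsg.Agent.BabyM.TransCover

/-!
# S5211, `q = 5`, row `B`: the elements of the Baby Monster (helper863)
-/

set_option autoImplicit false

namespace Cfsg.Agent.H863.G5.BW

open Subgroup
open Cfsg.Agent.Monster.VecEngine Cfsg.Agent.Monster.VecSpace
open Cfsg.Agent.BabyM.Conc Cfsg.Agent.BabyM.Inst Cfsg.Agent.BabyM.WordsInst
  Cfsg.Agent.BM.StageW Cfsg.Agent.BabyM.TransCover

theorem wg {v w : List Ltr} (h : chk v w = true) : Wg v = Wg w :=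
  eq_of_chk BabyM.Instance.all BabyM.Instance.ok h

theorem vecU_apply (x : Pl) (l : ℕ) (hl : U.testBit l = true) : vecU ℚ U x ⟨l, hl⟩ = (val x l : ℚ) := rfl

theorem ne_of_val {x y : Pl} {l : ℕ} (hl : U.testBit l = true) (h : val x l ≠ val y l) :
    vecU ℚ U x ≠ vecU ℚ U y := by
  intro he
  have h1 := congrFun he ⟨l, hl⟩
  rw [vecU_apply, vecU_apply] at h1
  exact h (by exact_mod_cast h1)

theorem mv_sound {v : List Ltr} {x : Pl} {l : ℕ} (h : mv v x l = true) : W v (vecU ℚ U x) ≠ vecU ℚ U x := by
  unfold mv at h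
  rw [Bool.and_eq_true] at h
  obtain ⟨a, ha, h1⟩ := W_run h.2
  rw [← ha]
  rw [Bool.not_eq_true', decide_eq_false_iff_not] at h1
  exact ne_of_val h.1 h1

theorem v_ne : Wg wv ≠ 1 := by
  intro h
  have h1 : (Wg wv : V ≃ₗ[ℚ] V) (vecU ℚ U vB) = vecU ℚ U vB := by rw [h]; rfl
  exact mv_sound e_v1 h1

/-- the relations between the elements -/
structure BRel {G : Type} [Group G] (v a1 a2 r w : G) : Prop where
  v1 : v ≠ 1
  v5 : v ^ 5 = 1
  a15 : a1 ^ 5 = 1
  a25 : a2 ^ 5 = 1
  r2 : r * r = 1
  w3 : w ^ 3 = 1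
  a1v : a1 * v = v * a1
  a2v : a2 * v = v * a2
  rv : r * v = v * r
  wv : w * v = v * w
  a12 : a1 * a2 = v ^ 3 * a2 * a1
  c11 : a1 * (r * a1 * r) = (r * a1 * r) * a1
  c12 : a1 * (r * a2 * r) = (r * a2 * r) * a1
  c21 : a2 * (r * a1 * r) = (r * a1 * r) * a2
  c22 : a2 * (r * a2 * r) = (r * a2 * r) * a2
  wa1 : w * a1 = a1 ^ 2 * a2 ^ 2 * w
  wa2 : w * a2 = a1 ^ 4 * a2 ^ 2 * v ^ 3 * w
  wa3 : w * (r * a1 * r) = r * (a1 ^ 4 * a2 ^ 3) * r * v * w
  wa4 : w * (r * a2 * r) = r * a1 ^ 3 * r * v ^ 4 * w

theorem brel : BRel (Wg wv) (Wg wa1) (Wg wa2) (Wg wr) (Wg ww) where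
  v1 := v_ne
  v5 := by
    have h := wg e_v5
    simp only [Wg_append, Wg_nil] at h
    simp only [pow_succ, pow_zero, one_mul, mul_assoc] at h ⊢
    exact h
  a15 := by
    have h := wg e_a1
    simp only [Wg_append, Wg_nil] at h
    simp only [pow_succ, pow_zero, one_mul, mul_assoc] at h ⊢
    exact h
  a25 := by
    have h := wg e_a2
    simp only [Wg_append, Wg_nil] at h
    simp only [pow_succ, pow_zero, one_mul, mul_assoc] at h ⊢
    exact h
  r2 := by
    have h := wg e_r
    simp only [Wg_append, Wg_nil] at h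
    exact h
  w3 := by
    have h := wg e_w
    simp only [Wg_append, Wg_nil] at h
    simp only [pow_succ, pow_zero, one_mul, mul_assoc] at h ⊢
    exact h
  a1v := by
    have h := wg e_a1v
    simp only [Wg_append] at h
    exact h
  a2v := by
    have h := wg e_a2v
    simp only [Wg_append] at h
    exact h
  rv := by
    have h := wg e_rv
    simp only [Wg_append] at h
    exact h
  wv := by
    have h := wg e_wv
    simp only [Wg_append] at h
    exact h
  a12 := by
    have h := wg e_a12
    simp only [Wg_append] at h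
    simp only [pow_succ, pow_zero, one_mul, mul_assoc] at h ⊢
    exact h
  c11 := by
    have h := wg e_a1ra1
    simp only [Wg_append] at h
    simp only [mul_assoc] at h ⊢
    exact h
  c12 := by
    have h := wg e_a1ra2
    simp only [Wg_append] at h
    simp only [mul_assoc] at h ⊢
    exact h
  c21 := by
    have h := wg e_a2ra1
    simp only [Wg_append] at h
    simp only [mul_assoc] at h ⊢
    exact h
  c22 := by
    have h := wg e_a2ra2
    simp only [Wg_append] at h
    simp only [mul_assoc] at h ⊢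
    exact h
  wa1 := by
    have h := wg e_wa1
    simp only [Wg_append] at h
    simp only [pow_succ, pow_zero, one_mul, mul_assoc] at h ⊢
    exact h
  wa2 := by
    have h := wg e_wa2
    simp only [Wg_append] at h
    simp only [pow_succ, pow_zero, one_mul, mul_assoc] at h ⊢
    exact h
  wa3 := by
    have h := wg e_wa3
    simp only [Wg_append] at h
    simp only [pow_succ, pow_zero, one_mul, mul_assoc] at h ⊢
    exact h
  wa4 := by
    have h := wg e_wa4
    simp only [Wg_append] at h
    simp only [pow_succ, pow_zero, one_mul, mul_assoc] at h ⊢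
    exact h

/-- an isomorphism preserves the relations -/
theorem BRel.map {G H : Type} [Group G] [Group H] {v a1 a2 r w : G} (h : BRel v a1 a2 r w) (f : G →* H)
    (hf : Function.Injective f) : BRel (f v) (f a1) (f a2) (f r) (f w) where
  v1 := fun h0 => h.v1 (hf (by rw [h0, map_one]))
  v5 := by rw [← map_pow, h.v5, map_one]
  a15 := by rw [← map_pow, h.a15, map_one]
  a25 := by rw [← map_pow, h.a25, map_one]
  r2 := by rw [← map_mul, h.r2, map_one]
  w3 := by rw [← map_pow, h.w3, map_one]
  a1v := by rw [← map_mul, h.a1v, map_mul]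
  a2v := by rw [← map_mul, h.a2v, map_mul]
  rv := by rw [← map_mul, h.rv, map_mul]
  wv := by rw [← map_mul, h.wv, map_mul]
  a12 := by simpa only [map_mul, map_pow] using congrArg f h.a12
  c11 := by simpa only [map_mul, map_pow] using congrArg f h.c11
  c12 := by simpa only [map_mul, map_pow] using congrArg f h.c12
  c21 := by simpa only [map_mul, map_pow] using congrArg f h.c21
  c22 := by simpa only [map_mul, map_pow] using congrArg f h.c22
  wa1 := by simpa only [map_mul, map_pow] using congrArg f h.wa1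
  wa2 := by simpa only [map_mul, map_pow] using congrArg f h.wa2
  wa3 := by simpa only [map_mul, map_pow] using congrArg f h.wa3
  wa4 := by simpa only [map_mul, map_pow] using congrArg f h.wa4

/-- the elements of the Baby Monster -/
theorem exists_brel : ∃ v a1 a2 r w : Spor.BabyMonster, BRel v a1 a2 r w :=
  ⟨_, _, _, _, _, brel.map BM.KHAll.iso.symm.toMonoidHom BM.KHAll.iso.symm.injective⟩

/-- `5⁷` does not divide the order of the Baby Monster -/
theorem card_B : ¬ 5 ^ 7 ∣ Nat.card Spor.BabyMonster := by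
  rw [BM.KHAll.card_B]
  norm_num

end Cfsg.Agent.H863.G5.BW
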