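import Cfsg.Agent.BM.StageWPairs

/-!
# S5211, `q = 5`, row `B`: words of the Baby Monster (helper863)

`v` of class `5B`, `a1, a2 ∈ C(z)` generate `5^(1+2)` with centre `v`, `r` an involution, `w` of order 3.
-/

set_option autoImplicit false
set_option Elab.async false

namespace Cfsg.Agent.H863.G5.BW

open Cfsg.Agent.Monster.VecEngine Cfsg.Agent.BabyM.Conc Cfsg.Agent.BabyM.WordsInst Cfsg.Agent.BM.StageW

def wv : List Ltr :=
  [.X1, .X4, .X5, .X7, .X10, .Z0, .Z1, .Z5, .Z7, .y10, .p, .y8, .xii, .p2, .y2, .h, .p7, .xii, .y10, .hi, .p2,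
  .h, .p5, .hi, .p9, .hi, .p6, .hi, .p2, .hi, .p6, .hi, .y2, .p2, .xii, .p7, .y1, .y4, .p, .y9, .h, .p6, .y5,
  .xii, .p3, .h, .y9, .xi, .y9, .y3, .p, .xii, .p6]

def wa1 : List Ltr :=
  [.X3, .X4, .X5, .X6, .X7, .X8, .Z0, .Z1, .Z2, .Z3, .Z4, .Z8, .Z9, .p2, .hi, .xi, .p8, .xii, .p2, .hi, .p9,
  .xi, .p3, .xi, .h, .p9, .y8, .p4, .xii, .y9, .p10, .y8, .p3, .y8, .xii, .hi, .xi, .y8, .p4, .hi, .xii, .p10,
  .xi, .p7, .y6, .y7, .p3, .y4]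

def wa2 : List Ltr :=
  [.X0, .X1, .X2, .X3, .X6, .X7, .X8, .X10, .Z0, .Z2, .Z10, .y8, .p6, .xi, .p9, .xi, .y5, .p2, .y3, .y2, .xii,
  .p5, .y8, .p5, .xii, .h, .p2, .y4, .p3, .xii, .y9, .xi, .y9, .p9, .y8, .p2, .xi, .p10, .y7, .p5, .xii, .hi,
  .p, .h, .p7, .hi, .y1, .p6, .y1]

def wr : List Ltr :=
  [.taui, .xi, .p, .xi, .y4, .h, .p6, .xi, .p6, .taui, .xi, .p5, .xi, .p, .xi, .y3, .X0, .X1, .X2, .X4, .X9,
  .Z0, .Z2, .Z3, .Z5, .Z7, .Z9, .z, .p4, .y3, .p2, .xi, .y3, .y10, .xi, .y7, .p5, .y9, .xi, .p7, .y9, .p4, .xii,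
  .p9, .xii, .y6, .p6, .h, .p5, .hi, .y3, .p2, .y3, .xii, .p2, .y3, .xii, .p10, .xii, .p6, .xii, .tau, .p5,
  .xii, .p5, .hi, .y4, .xii, .p10, .xii, .tau]

def ww : List Ltr :=
  [.X3, .X7, .X8, .Z4, .Z5, .Z6, .Z7, .Z8, .Z10, .y5, .p7, .y7, .xi, .y10, .p, .y8, .xi, .p2, .hi, .y9, .xi,
  .y9, .p3, .y5, .y9, .y4, .xii, .y2, .p8, .xii, .y6, .p5, .hi, .y1, .xii, .p2, .y1, .xii]

theorem e_v5 : chk (wv ++ wv ++ wv ++ wv ++ wv)
    ([]) = true := by decide +kernel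

theorem e_a1 : chk (wa1 ++ wa1 ++ wa1 ++ wa1 ++ wa1)
    ([]) = true := by decide +kernel

theorem e_a2 : chk (wa2 ++ wa2 ++ wa2 ++ wa2 ++ wa2)
    ([]) = true := by decide +kernel

theorem e_r : chk (wr ++ wr)
    ([]) = true := by decide +kernel

theorem e_w : chk (ww ++ ww ++ ww)
    ([]) = true := by decide +kernel

theorem e_a1v : chk (wv ++ wa1)
    (wa1 ++ wv) = true := by decide +kernel

theorem e_a2v : chk (wv ++ wa2)
    (wa2 ++ wv) = true := by decide +kernel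

theorem e_rv : chk (wv ++ wr)
    (wr ++ wv) = true := by decide +kernel

theorem e_wv : chk (wv ++ ww)
    (ww ++ wv) = true := by decide +kernel

theorem e_a12 : chk (wa2 ++ wa1)
    (wa1 ++ wa2 ++ wv ++ wv ++ wv) = true := by decide +kernel

theorem e_a1ra1 : chk (wr ++ wa1 ++ wr ++ wa1)
    (wa1 ++ wr ++ wa1 ++ wr) = true := by decide +kernel

theorem e_a1ra2 : chk (wr ++ wa2 ++ wr ++ wa1)
    (wa1 ++ wr ++ wa2 ++ wr) = true := by decide +kernel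

theorem e_a2ra1 : chk (wr ++ wa1 ++ wr ++ wa2)
    (wa2 ++ wr ++ wa1 ++ wr) = true := by decide +kernel

theorem e_a2ra2 : chk (wr ++ wa2 ++ wr ++ wa2)
    (wa2 ++ wr ++ wa2 ++ wr) = true := by decide +kernel

theorem e_wa1 : chk (wa1 ++ ww)
    (ww ++ wa2 ++ wa2 ++ wa1 ++ wa1) = true := by decide +kernel

theorem e_wa2 : chk (wa2 ++ ww)
    (ww ++ wv ++ wv ++ wv ++ wa2 ++ wa2 ++ wa1 ++ wa1 ++ wa1 ++ wa1) = true := by decide +kernel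

theorem e_wa3 : chk (wr ++ wa1 ++ wr ++ ww)
    (ww ++ wv ++ wr ++ wa2 ++ wa2 ++ wa2 ++ wa1 ++ wa1 ++ wa1 ++ wa1 ++ wr) = true := by decide +kernel

theorem e_wa4 : chk (wr ++ wa2 ++ wr ++ ww)
    (ww ++ wv ++ wv ++ wv ++ wv ++ wr ++ wa1 ++ wa1 ++ wa1 ++ wr) = true := by decide +kernel

/-- a word moves a vector -/
noncomputable def mv (v : List Ltr) (x : Pl) (l : ℕ) : Bool :=
  and (U.testBit l) (runL (v.map Ltr.prog) x fun a => !decide (val a l = val x l))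

theorem e_v1 : mv wv vB 14 = true := by decide +kernel

end Cfsg.Agent.H863.G5.BW
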