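import Cfsg.Agent.H650.GU.Sub
import Cfsg.Agent.Lib.NormalAbelian

/-!
# S5211, `q = 5`: recognition of the Sylow 5-subgroup of `G₂(5)` by relations (helper863)

`Rel z n1 n2 n3 n4 a` : the relations between the generators. `exists_hom` : in a finite group with such elements, `z ≠ 1`,
there is an injective homomorphism `GU (ZMod 5) →* G` onto `⟨z, n1, …, n4, a⟩`, `Q1` going to `⟨z, n1, …, n4⟩`.
-/

set_option autoImplicit false

namespace Cfsg.Agent.H863.G5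

open Subgroup Cfsg.Agent.H650.G

universe u

/-- the relations -/
structure Rel {G : Type u} [Group G] (z n1 n2 n3 n4 a : G) : Prop where
  z5 : z ^ 5 = 1
  a5 : a ^ 5 = 1
  p1 : n1 ^ 5 = 1
  p2 : n2 ^ 5 = 1
  p3 : n3 ^ 5 = 1
  p4 : n4 ^ 5 = 1
  zn1 : z * n1 = n1 * z
  zn2 : z * n2 = n2 * z
  zn3 : z * n3 = n3 * z
  zn4 : z * n4 = n4 * z
  za : z * a = a * z
  n12 : n1 * n2 = n2 * n1
  n13 : n1 * n3 = n3 * n1
  n14 : n1 * n4 = z ^ 2 * n4 * n1
  n23 : n2 * n3 = z ^ 3 * n3 * n2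
  n24 : n2 * n4 = z ^ 2 * n4 * n2
  n34 : n3 * n4 = n4 * n3
  an1 : a * n1 = n1 * a
  an2 : a * n2 = n1 * n2 * a
  an3 : a * n3 = n2 * n3 * a
  an4 : a * n4 = n3 * n4 * a

/-! ### The order of the group -/

section bound

variable {P : Type u} [Group P] [Finite P]

theorem mem_norm {H : Subgroup P} {g : P} (h : ∀ x ∈ H, g * x * g⁻¹ ∈ H) : g ∈ normalizer (H : Set P) := by
  have h1 : H.map (MulAut.conj g).toMonoidHom = H := by
    apply Subgroup.eq_of_le_of_card_ge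
    · rintro _ ⟨x, hx, rfl⟩
      exact h x hx
    · exact (Nat.card_congr (H.equivMapOfInjective _ (MulAut.conj g).injective).toEquiv).le
  rw [mem_normalizer_iff]
  intro x
  constructor
  · exact fun hx => h x hx
  · intro hx
    have hx' : g * x * g⁻¹ ∈ H.map (MulAut.conj g).toMonoidHom := by rw [h1]; exact hx
    obtain ⟨y, hy, hyx⟩ := hx'
    have : y = x := (MulAut.conj g).injective hyx
    exact this ▸ hy

theorem card_sup_le {H : Subgroup P} {g : P} (hg : g ∈ normalizer (H : Set P)) (h5 : g ^ 5 = 1) :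
    Nat.card ↥(H ⊔ zpowers g) ≤ 5 * Nat.card H := by
  have hle : zpowers g ≤ normalizer (H : Set P) := by rw [zpowers_le]; exact hg
  have h1 : ∀ x ∈ H ⊔ zpowers g, ∃ a ∈ zpowers g, ∃ b ∈ H, x = a * b := by
    intro x hx
    have h2 : H ⊔ zpowers g ≤ normalizer (H : Set P) := sup_le le_normalizer hle
    have hN : (H.subgroupOf (H ⊔ zpowers g)).Normal := by
      rw [Subgroup.normal_subgroupOf_iff_le_normalizer le_sup_left]
      exact h2
    have h4 : (zpowers g).subgroupOf (H ⊔ zpowers g) ⊔ H.subgroupOf (H ⊔ zpowers g) = ⊤ := by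
      rw [← Subgroup.subgroupOf_sup le_sup_right le_sup_left, sup_comm, subgroupOf_self]
    have h3 : (⟨x, hx⟩ : ↥(H ⊔ zpowers g)) ∈ (zpowers g).subgroupOf (H ⊔ zpowers g) ⊔ H.subgroupOf (H ⊔ zpowers g) := by
      rw [h4]
      exact mem_top _
    obtain ⟨a, ha, b, hb, hab⟩ := Subgroup.mem_sup_of_normal_right.1 h3
    exact ⟨a, mem_subgroupOf.1 ha, b, mem_subgroupOf.1 hb, (congrArg Subtype.val hab).symm⟩
  have h2 : Nat.card ↥(H ⊔ zpowers g) ≤ Nat.card (↥(zpowers g) × ↥H) := by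
    refine Nat.card_le_card_of_surjective (fun x : ↥(zpowers g) × ↥H =>
      (⟨(x.1 : P) * (x.2 : P), mul_mem (mem_sup_right x.1.2) (mem_sup_left x.2.2)⟩ : ↥(H ⊔ zpowers g))) ?_
    rintro ⟨x, hx⟩
    obtain ⟨a, ha, b, hb, rfl⟩ := h1 x hx
    exact ⟨(⟨a, ha⟩, ⟨b, hb⟩), rfl⟩
  rw [Nat.card_prod, Nat.card_zpowers] at h2
  exact h2.trans (Nat.mul_le_mul_right _ (Nat.le_of_dvd (by norm_num) (orderOf_dvd_of_pow_eq_one h5)))

/-- the conjugate of an element of a subgroup generated by `H` and `g` -/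
theorem norm_sup {H : Subgroup P} {g x : P} (hH : x ∈ normalizer (H : Set P)) (hg : x * g * x⁻¹ ∈ H ⊔ zpowers g) :
    x ∈ normalizer ((H ⊔ zpowers g : Subgroup P) : Set P) := by
  apply mem_norm
  intro y hy
  have h1 : (H ⊔ zpowers g).map (MulAut.conj x).toMonoidHom ≤ H ⊔ zpowers g := by
    rw [Subgroup.map_sup]
    refine sup_le ?_ ?_
    · rintro _ ⟨w, hw, rfl⟩
      exact mem_sup_left ((mem_normalizer_iff.1 hH w).1 hw)
    · rw [MonoidHom.map_zpowers, zpowers_le]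
      exact hg
  exact h1 ⟨y, hy, rfl⟩

variable {z n1 n2 n3 n4 a : P}

/-- the normal subgroup `⟨z, n1, …, n4⟩` -/
def Qs (z n1 n2 n3 n4 : P) : Subgroup P := (((zpowers z ⊔ zpowers n1) ⊔ zpowers n2) ⊔ zpowers n3) ⊔ zpowers n4

omit [Finite P] in
theorem conj_of {x y w : P} (h : x * y = w * x) : x * y * x⁻¹ = w := by rw [h, mul_inv_cancel_right]

theorem norm_z {x : P} (h : z * x = x * z) : x ∈ normalizer ((zpowers z : Subgroup P) : Set P) := by
  apply mem_norm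
  intro y hy
  obtain ⟨k, rfl⟩ := mem_zpowers_iff.1 hy
  have h1 : x * z ^ k = z ^ k * x := ((show Commute z x from h).zpow_left k).eq.symm
  rw [h1, mul_inv_cancel_right]
  exact zpow_mem (mem_zpowers _) k

theorem Rel.card_Qs (R : Rel z n1 n2 n3 n4 a) : a ∈ normalizer ((Qs z n1 n2 n3 n4 : Subgroup P) : Set P) ∧
    Nat.card (Qs z n1 n2 n3 n4) ≤ 3125 := by
  set H0 : Subgroup P := zpowers z with hH0
  set H1 : Subgroup P := H0 ⊔ zpowers n1 with hH1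
  set H2 : Subgroup P := H1 ⊔ zpowers n2 with hH2
  set H3 : Subgroup P := H2 ⊔ zpowers n3 with hH3
  have hQ : Qs z n1 n2 n3 n4 = H3 ⊔ zpowers n4 := rfl
  have z0 : z ∈ H0 := mem_zpowers _
  have z1 : z ∈ H1 := mem_sup_left z0
  have z2 : z ∈ H2 := mem_sup_left z1
  have z3 : z ∈ H3 := mem_sup_left z2
  have m1 : n1 ∈ H1 := mem_sup_right (mem_zpowers _)
  have m1' : n1 ∈ H2 := mem_sup_left m1
  have m1'' : n1 ∈ H3 := mem_sup_left m1'
  have m2 : n2 ∈ H2 := mem_sup_right (mem_zpowers _)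
  have m2' : n2 ∈ H3 := mem_sup_left m2
  have m3 : n3 ∈ H3 := mem_sup_right (mem_zpowers _)
  have a0 : a ∈ normalizer (H0 : Set P) := norm_z R.za
  have b0 : n1 ∈ normalizer (H0 : Set P) := norm_z R.zn1
  have c0 : n2 ∈ normalizer (H0 : Set P) := norm_z R.zn2
  have d0 : n3 ∈ normalizer (H0 : Set P) := norm_z R.zn3
  have e0 : n4 ∈ normalizer (H0 : Set P) := norm_z R.zn4
  have a1 : a ∈ normalizer (H1 : Set P) := norm_sup a0 (by rw [conj_of R.an1]; exact m1)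
  have c1 : n2 ∈ normalizer (H1 : Set P) := norm_sup c0 (by rw [conj_of R.n12.symm]; exact m1)
  have d1 : n3 ∈ normalizer (H1 : Set P) := norm_sup d0 (by rw [conj_of R.n13.symm]; exact m1)
  have e1 : n4 ∈ normalizer (H1 : Set P) := norm_sup e0 (by
    have h : n4 * n1 = (z ^ 2)⁻¹ * n1 * n4 := by rw [mul_assoc, R.n14]; group
    rw [conj_of h]
    exact mul_mem (inv_mem (pow_mem z1 2)) m1)
  have a2 : a ∈ normalizer (H2 : Set P) := norm_sup a1 (by rw [conj_of R.an2]; exact mul_mem m1' m2)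
  have d2 : n3 ∈ normalizer (H2 : Set P) := norm_sup d1 (by
    have h : n3 * n2 = (z ^ 3)⁻¹ * n2 * n3 := by rw [mul_assoc, R.n23]; group
    rw [conj_of h]
    exact mul_mem (inv_mem (pow_mem z2 3)) m2)
  have e2 : n4 ∈ normalizer (H2 : Set P) := norm_sup e1 (by
    have h : n4 * n2 = (z ^ 2)⁻¹ * n2 * n4 := by rw [mul_assoc, R.n24]; group
    rw [conj_of h]
    exact mul_mem (inv_mem (pow_mem z2 2)) m2)
  have a3 : a ∈ normalizer (H3 : Set P) := norm_sup a2 (by rw [conj_of R.an3]; exact mul_mem m2' m3)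
  have e3 : n4 ∈ normalizer (H3 : Set P) := norm_sup e2 (by rw [conj_of R.n34.symm]; exact m3)
  have a4 : a ∈ normalizer ((H3 ⊔ zpowers n4 : Subgroup P) : Set P) := norm_sup a3 (by
    rw [conj_of R.an4]; exact mul_mem (mem_sup_left m3) (mem_sup_right (mem_zpowers _)))
  have k0 : Nat.card H0 ≤ 5 := by
    rw [hH0, Nat.card_zpowers]
    exact Nat.le_of_dvd (by norm_num) (orderOf_dvd_of_pow_eq_one R.z5)
  have k1 : Nat.card H1 ≤ 5 * Nat.card H0 := card_sup_le b0 R.p1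
  have k2 : Nat.card H2 ≤ 5 * Nat.card H1 := card_sup_le c1 R.p2
  have k3 : Nat.card H3 ≤ 5 * Nat.card H2 := card_sup_le d2 R.p3
  have k4 : Nat.card ↥(H3 ⊔ zpowers n4) ≤ 5 * Nat.card H3 := card_sup_le e3 R.p4
  refine ⟨a4, ?_⟩
  rw [hQ]
  omega

theorem Rel.card_le (R : Rel z n1 n2 n3 n4 a) : Nat.card ↥(Qs z n1 n2 n3 n4 ⊔ zpowers a) ≤ 15625 := by
  obtain ⟨h1, h2⟩ := R.card_Qs
  have h3 := card_sup_le h1 R.a5
  omega

end bound

/-! ### The elements of `GU (ZMod 5)` -/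

def gz : GU (ZMod 5) := ⟨0, 0, 0, 0, 0, 2⟩
def g1 : GU (ZMod 5) := ⟨0, 4, 0, 0, 0, 0⟩
def g2 : GU (ZMod 5) := ⟨0, 0, 3, 0, 0, 2⟩
def g3 : GU (ZMod 5) := ⟨0, 2, 1, 4, 0, 4⟩
def g4 : GU (ZMod 5) := ⟨0, 0, 0, 1, 1, 0⟩
def ga : GU (ZMod 5) := ⟨1, 0, 0, 0, 0, 0⟩

instance : DecidableEq (GU (ZMod 5)) := fun x y =>
  decidable_of_iff ((x.r, x.b, x.c, x.d, x.e, x.z) = (y.r, y.b, y.c, y.d, y.e, y.z))
    ⟨fun h => by
      simp only [Prod.mk.injEq] at h
      exact GU.ext h.1 h.2.1 h.2.2.1 h.2.2.2.1 h.2.2.2.2.1 h.2.2.2.2.2, fun h => by rw [h]⟩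

theorem rel_g : Rel gz g1 g2 g3 g4 ga := by
  constructor <;> decide +kernel

theorem gz_ne : gz ≠ 1 := by decide +kernel

theorem gen_g : Qs gz g1 g2 g3 g4 ⊔ zpowers ga = ⊤ := by
  set T : Subgroup (GU (ZMod 5)) := Qs gz g1 g2 g3 g4 ⊔ zpowers ga with hT
  have hz : gz ∈ T := mem_sup_left (mem_sup_left (mem_sup_left (mem_sup_left (mem_sup_left (mem_zpowers _)))))
  have h1 : g1 ∈ T := mem_sup_left (mem_sup_left (mem_sup_left (mem_sup_left (mem_sup_right (mem_zpowers _)))))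
  have h2 : g2 ∈ T := mem_sup_left (mem_sup_left (mem_sup_left (mem_sup_right (mem_zpowers _))))
  have h3 : g3 ∈ T := mem_sup_left (mem_sup_left (mem_sup_right (mem_zpowers _)))
  have h4 : g4 ∈ T := mem_sup_left (mem_sup_right (mem_zpowers _))
  have ha : ga ∈ T := mem_sup_right (mem_zpowers _)
  have k : ∀ i1 i2 i3 i4 i5 : ℕ, g1 ^ i1 * g2 ^ i2 * g3 ^ i3 * g4 ^ i4 * gz ^ i5 ∈ T := fun i1 i2 i3 i4 i5 =>
    mul_mem (mul_mem (mul_mem (mul_mem (pow_mem h1 _) (pow_mem h2 _)) (pow_mem h3 _)) (pow_mem h4 _)) (pow_mem hz _)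
  have e1 : ∀ t : ZMod 5, GU.x1 t ∈ T := fun t => by
    have : GU.x1 t = ga ^ t.val := by revert t; decide +kernel
    rw [this]; exact pow_mem ha _
  have e2 : ∀ t : ZMod 5, GU.x2 t ∈ T := fun t => by
    have : GU.x2 t = (g1 ^ 4 * g2 ^ 0 * g3 ^ 0 * g4 ^ 0 * gz ^ 0) ^ t.val := by revert t; decide +kernel
    rw [this]; exact pow_mem (k _ _ _ _ _) _
  have e3 : ∀ t : ZMod 5, GU.x3 t ∈ T := fun t => by
    have : GU.x3 t = (g1 ^ 0 * g2 ^ 2 * g3 ^ 0 * g4 ^ 0 * gz ^ 3) ^ t.val := by revert t; decide +kernel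
    rw [this]; exact pow_mem (k _ _ _ _ _) _
  have e4 : ∀ t : ZMod 5, GU.x4 t ∈ T := fun t => by
    have : GU.x4 t = (g1 ^ 0 * g2 ^ 0 * g3 ^ 0 * g4 ^ 0 * gz ^ 3) ^ t.val := by revert t; decide +kernel
    rw [this]; exact pow_mem (k _ _ _ _ _) _
  have e5 : ∀ t : ZMod 5, GU.x5 t ∈ T := fun t => by
    have : GU.x5 t = (g1 ^ 3 * g2 ^ 2 * g3 ^ 4 * g4 ^ 0 * gz ^ 1) ^ t.val := by revert t; decide +kernel
    rw [this]; exact pow_mem (k _ _ _ _ _) _
  have e6 : ∀ t : ZMod 5, GU.x6 t ∈ T := fun t => by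
    have : GU.x6 t = (g1 ^ 2 * g2 ^ 3 * g3 ^ 1 * g4 ^ 1 * gz ^ 0) ^ t.val := by revert t; decide +kernel
    rw [this]; exact pow_mem (k _ _ _ _ _) _
  rw [eq_top_iff]
  intro x _
  rw [GU.eq_prod x]
  exact mul_mem (mul_mem (mul_mem (mul_mem (mul_mem (e1 _) (e2 _)) (e3 _)) (e5 _)) (e6 _)) (e4 _)

theorem three_ne : (3 : ZMod 5) ≠ 0 := by decide

theorem z_pow : ∀ w : ZMod 5, ∃ k : Fin 5, (⟨0, 0, 0, 0, 0, w⟩ : GU (ZMod 5)) = gz ^ (k : ℕ) := by decide +kernel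

theorem card_GU : Nat.card (GU (ZMod 5)) = 15625 := by
  rw [GU.card_eq, Nat.card_zmod]
  norm_num

theorem Qs_eq : Qs gz g1 g2 g3 g4 = GU.Q1 (ZMod 5) := by
  have hle : Qs gz g1 g2 g3 g4 ≤ GU.Q1 (ZMod 5) := by
    refine sup_le (sup_le (sup_le (sup_le ?_ ?_) ?_) ?_) ?_ <;> rw [zpowers_le] <;> rfl
  refine le_antisymm hle ?_
  have h1 : Nat.card ↥(Qs gz g1 g2 g3 g4 ⊔ zpowers ga) ≤ 5 * Nat.card (Qs gz g1 g2 g3 g4) :=
    card_sup_le rel_g.card_Qs.1 rel_g.a5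
  rw [gen_g, card_top, card_GU] at h1
  refine (Subgroup.eq_of_le_of_card_ge hle ?_).ge
  rw [GU.card_Q1, Nat.card_zmod]
  omega

/-! ### The product -/

section prod

variable {P P' : Type u} [Group P] [Group P']

theorem Rel.prod {z n1 n2 n3 n4 a : P} {z' n1' n2' n3' n4' a' : P'} (R : Rel z n1 n2 n3 n4 a)
    (R' : Rel z' n1' n2' n3' n4' a') : Rel (z, z') (n1, n1') (n2, n2') (n3, n3') (n4, n4') (a, a') where
  z5 := Prod.ext R.z5 R'.z5
  a5 := Prod.ext R.a5 R'.a5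
  p1 := Prod.ext R.p1 R'.p1
  p2 := Prod.ext R.p2 R'.p2
  p3 := Prod.ext R.p3 R'.p3
  p4 := Prod.ext R.p4 R'.p4
  zn1 := Prod.ext R.zn1 R'.zn1
  zn2 := Prod.ext R.zn2 R'.zn2
  zn3 := Prod.ext R.zn3 R'.zn3
  zn4 := Prod.ext R.zn4 R'.zn4
  za := Prod.ext R.za R'.za
  n12 := Prod.ext R.n12 R'.n12
  n13 := Prod.ext R.n13 R'.n13
  n14 := Prod.ext R.n14 R'.n14
  n23 := Prod.ext R.n23 R'.n23
  n24 := Prod.ext R.n24 R'.n24
  n34 := Prod.ext R.n34 R'.n34
  an1 := Prod.ext R.an1 R'.an1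
  an2 := Prod.ext R.an2 R'.an2
  an3 := Prod.ext R.an3 R'.an3
  an4 := Prod.ext R.an4 R'.an4

theorem Qs_map (f : P →* P') (z n1 n2 n3 n4 : P) :
    (Qs z n1 n2 n3 n4).map f = Qs (f z) (f n1) (f n2) (f n3) (f n4) := by
  unfold Qs
  simp only [Subgroup.map_sup, MonoidHom.map_zpowers]

end prod

/-- **recognition** -/
theorem exists_hom {G : Type} [Group G] [Finite G] {z n1 n2 n3 n4 a : G} (R : Rel z n1 n2 n3 n4 a) (hz : z ≠ 1) :
    ∃ f : GU (ZMod 5) →* G, Function.Injective f ∧ f gz = z ∧ f g1 = n1 ∧ f g2 = n2 ∧ f g3 = n3 ∧ f g4 = n4 ∧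
      f ga = a ∧ (GU.Q1 (ZMod 5)).map f = Qs z n1 n2 n3 n4 := by
  have RP := R.prod rel_g
  set T : Subgroup (G × GU (ZMod 5)) := Qs (z, gz) (n1, g1) (n2, g2) (n3, g3) (n4, g4) ⊔ zpowers (a, ga) with hT
  have hcard : Nat.card T ≤ 15625 := RP.card_le
  set π : T →* GU (ZMod 5) := (MonoidHom.snd G (GU (ZMod 5))).comp T.subtype with hπ
  have hsurj : Function.Surjective π := by
    rw [← MonoidHom.range_eq_top, hπ, MonoidHom.range_comp, Subgroup.range_subtype, hT, Subgroup.map_sup, Qs_map,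
      MonoidHom.map_zpowers]
    exact gen_g
  have hinj : Function.Injective π := by
    refine ((Function.Surjective.bijective_of_nat_card_le hsurj ?_)).1
    rw [card_GU]
    exact hcard
  have hbij : Function.Bijective π := ⟨hinj, hsurj⟩
  set e : T ≃* GU (ZMod 5) := MulEquiv.ofBijective π hbij with he
  set f : GU (ZMod 5) →* G := ((MonoidHom.fst G (GU (ZMod 5))).comp T.subtype).comp e.symm.toMonoidHom with hf
  have key : ∀ (x : G) (y : GU (ZMod 5)), (x, y) ∈ T → f y = x := by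
    intro x y h
    have h1 : e ⟨(x, y), h⟩ = y := rfl
    have h2 : e.symm y = ⟨(x, y), h⟩ := by rw [MulEquiv.symm_apply_eq]; exact h1.symm
    show ((e.symm y : T) : G × GU (ZMod 5)).1 = x
    rw [h2]
  have fz : f gz = z := key _ _ (mem_sup_left (mem_sup_left (mem_sup_left (mem_sup_left (mem_sup_left (mem_zpowers _))))))
  have f1 : f g1 = n1 := key _ _ (mem_sup_left (mem_sup_left (mem_sup_left (mem_sup_left (mem_sup_right (mem_zpowers _))))))
  have f2 : f g2 = n2 := key _ _ (mem_sup_left (mem_sup_left (mem_sup_left (mem_sup_right (mem_zpowers _)))))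
  have f3 : f g3 = n3 := key _ _ (mem_sup_left (mem_sup_left (mem_sup_right (mem_zpowers _))))
  have f4 : f g4 = n4 := key _ _ (mem_sup_left (mem_sup_right (mem_zpowers _)))
  have fa : f ga = a := key _ _ (mem_sup_right (mem_zpowers _))
  refine ⟨f, ?_, fz, f1, f2, f3, f4, fa, ?_⟩
  · rw [← MonoidHom.ker_eq_bot_iff]
    by_contra hk
    have hp : IsPGroup 5 (GU (ZMod 5)) := IsPGroup.of_card (n := 6) (by rw [card_GU]; norm_num)
    have : Fact (Nat.Prime 5) := ⟨Nat.prime_five⟩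
    have : Group.IsNilpotent (GU (ZMod 5)) := hp.isNilpotent
    apply Cfsg.Agent.Lib.NormalAbelian.normal_inf_center_ne_bot f.ker hk
    rw [GU.center_eq three_ne, eq_bot_iff]
    rintro x ⟨hx, hxz⟩
    obtain ⟨h1, h2, h3, h4, h5⟩ := GU.mem_Z1.1 hxz
    have hx' : ∃ k : Fin 5, x = gz ^ (k : ℕ) := by
      have e0 : x = ⟨0, 0, 0, 0, 0, x.z⟩ := GU.ext h1 h5 h4 h3 h2 rfl
      rw [e0]
      exact z_pow _
    obtain ⟨k, rfl⟩ := hx'
    have hk' : z ^ (k : ℕ) = 1 := by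
      have := MonoidHom.mem_ker.1 hx
      rwa [map_pow, fz] at this
    have hord : orderOf z = 5 := orderOf_eq_prime R.z5 hz
    have hdvd := orderOf_dvd_of_pow_eq_one hk'
    rw [hord] at hdvd
    have hk0 : (k : ℕ) = 0 := Nat.eq_zero_of_dvd_of_lt hdvd k.2
    rw [hk0, pow_zero]
    exact mem_bot.2 rfl
  · rw [← Qs_eq, Qs_map, fz, f1, f2, f3, f4]

end Cfsg.Agent.H863.G5
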